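import Mathlib
import Groth.Prelude.Def_SymTen

/-!
# Symmetric tensors commute with filtered direct limits (helper library for S13728)
-/

set_option linter.unusedSectionVars false
set_option linter.unusedVariables false
set_option linter.unusedSimpArgs false
set_option autoImplicit false
set_option linter.style.haveILetI false
set_option maxHeartbeats 400000

universe u

open scoped TensorProduct

namespace Groth.Agent.Lib.Helper6.SymTenLim

section Functoriality

variable (A : Type u) [CommRing A] {B C D : Type u} [CommRing B] [Algebra A B] [CommRing C]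
  [Algebra A C] [CommRing D] [Algebra A D] (d : ℕ)

theorem tmap_comp_apply (g : C →ₐ[A] D) (f : B →ₐ[A] C) (z : ⨂[A] _ : Fin d, B) :
    SymTen.tmap A d g (SymTen.tmap A d f z) = SymTen.tmap A d (g.comp f) z := by
  induction z using PiTensorProduct.induction_on with
  | smul_tprod r x => simp
  | add x y hx hy => simp [hx, hy]

theorem tmap_id_apply (z : ⨂[A] _ : Fin d, B) :
    SymTen.tmap A d (AlgHom.id A B) z = z := by
  induction z using PiTensorProduct.induction_on with
  | smul_tprod r x => simp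
  | add x y hx hy => simp [hx, hy]

end Functoriality

variable {A : Type u} [CommRing A] {B : Type u} [CommRing B] [Algebra A B]
    {ι : Type u} [Preorder ι] [IsDirected ι (fun i j => i ≤ j)] [Nonempty ι]
    (Bi : ι → Type u) [∀ i, CommRing (Bi i)] [∀ i, Algebra A (Bi i)]
    (t : ∀ i j : ι, i ≤ j → (Bi i →ₐ[A] Bi j)) (φ : ∀ i : ι, Bi i →ₐ[A] B)

/-- The hypotheses saying that `B` is the direct limit of the `Bi`. -/
structure IsDL : Prop where
  comp : ∀ (i j : ι) (h : i ≤ j), (φ j).comp (t i j h) = φ i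
  surj : ∀ b : B, ∃ (i : ι) (x : Bi i), φ i x = b
  zero : ∀ (i : ι) (x : Bi i), φ i x = 0 → ∃ (j : ι) (h : i ≤ j), t i j h x = 0
  id : ∀ (i : ι) (h : i ≤ i), t i i h = AlgHom.id A (Bi i)
  trans : ∀ (i j k : ι) (hij : i ≤ j) (hjk : j ≤ k),
    (t j k hjk).comp (t i j hij) = t i k (hij.trans hjk)

variable {Bi t φ}

namespace IsDL

variable (H : IsDL Bi t φ)
include H

theorem comp_apply (i j : ι) (h : i ≤ j) (x : Bi i) : φ j (t i j h x) = φ i x :=
  AlgHom.congr_fun (H.comp i j h) x

theorem trans_apply (i j k : ι) (hij : i ≤ j) (hjk : j ≤ k) (x : Bi i) :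
    t j k hjk (t i j hij x) = t i k (hij.trans hjk) x :=
  AlgHom.congr_fun (H.trans i j k hij hjk) x

theorem exists_lift {α : Type} [Finite α] (f : α → B) :
    ∃ (i : ι) (x : α → Bi i), ∀ n, φ i (x n) = f n := by
  choose i₀ x₀ hx₀ using fun n => H.surj (f n)
  obtain ⟨k, hk⟩ := Finite.exists_le i₀
  exact ⟨k, fun n => t (i₀ n) k (hk n) (x₀ n), fun n => by rw [H.comp_apply, hx₀]⟩

theorem exists_eq {α : Type} [Finite α] (i : ι) (x y : α → Bi i)
    (h : ∀ n, φ i (x n) = φ i (y n)) :
    ∃ (j : ι) (hij : i ≤ j), ∀ n, t i j hij (x n) = t i j hij (y n) := by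
  have h0 : ∀ n, ∃ (j : ι) (hij : i ≤ j), t i j hij (x n - y n) = 0 := fun n =>
    H.zero i _ (by rw [map_sub, h n, sub_self])
  choose j₀ hj₀ hz using h0
  obtain ⟨k, hk⟩ := Finite.exists_le (fun o : Option α => o.elim i j₀)
  have hik : i ≤ k := hk none
  refine ⟨k, hik, fun n => ?_⟩
  have h1 : t i k hik (x n - y n) = 0 := by
    have h2 : j₀ n ≤ k := hk (some n)
    rw [← H.trans_apply i (j₀ n) k (hj₀ n) h2, hz, map_zero]
  rwa [map_sub, sub_eq_zero] at h1

end IsDL

section Limit

open Classical in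
/-- The direct limit of the tensor powers. -/
abbrev L (d : ℕ) (t : ∀ i j : ι, i ≤ j → (Bi i →ₐ[A] Bi j)) : Type u :=
  Module.DirectLimit (fun i => ⨂[A] _ : Fin d, Bi i)
    (fun i j h => (SymTen.tmap A d (t i j h)).toLinearMap)

open Classical in
/-- The canonical map into the direct limit. -/
noncomputable abbrev ofL (d : ℕ) (t : ∀ i j : ι, i ≤ j → (Bi i →ₐ[A] Bi j)) (i : ι) :
    (⨂[A] _ : Fin d, Bi i) →ₗ[A] L d t :=
  Module.DirectLimit.of A ι (fun i => ⨂[A] _ : Fin d, Bi i)
    (fun i j h => (SymTen.tmap A d (t i j h)).toLinearMap) i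

variable (H : IsDL Bi t φ) (d : ℕ)
include H

theorem directedSystem :
    DirectedSystem (fun i => ⨂[A] _ : Fin d, Bi i)
      (fun i j h => ((SymTen.tmap A d (t i j h)).toLinearMap :
        (⨂[A] _ : Fin d, Bi i) → (⨂[A] _ : Fin d, Bi j))) where
  map_self i x := by
    show SymTen.tmap A d (t i i le_rfl) x = x
    rw [H.id, tmap_id_apply]
  map_map {k j i} hij hjk x := by
    show SymTen.tmap A d (t j k hjk) (SymTen.tmap A d (t i j hij) x) = SymTen.tmap A d (t i k _) x
    rw [tmap_comp_apply, H.trans]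

theorem ofL_tmap (i j : ι) (h : i ≤ j) (y : ⨂[A] _ : Fin d, Bi i) :
    ofL d t j (SymTen.tmap A d (t i j h) y) = ofL d t i y := by
  classical
  exact Module.DirectLimit.of_f (R := A) (ι := ι) (G := fun i => ⨂[A] _ : Fin d, Bi i)
    (f := fun i j h => (SymTen.tmap A d (t i j h)).toLinearMap) (i := i) (j := j) (hij := h)
    (x := y)

theorem ofL_tprod_eq (i i' : ι) (x : Fin d → Bi i) (x' : Fin d → Bi i')
    (h : ∀ n, φ i (x n) = φ i' (x' n)) :
    ofL d t i (PiTensorProduct.tprod A x) = ofL d t i' (PiTensorProduct.tprod A x') := by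
  obtain ⟨k, hik, hi'k⟩ := exists_ge_ge i i'
  obtain ⟨j, hkj, hj⟩ := H.exists_eq k (fun n => t i k hik (x n)) (fun n => t i' k hi'k (x' n))
    (fun n => by rw [H.comp_apply, H.comp_apply, h])
  rw [← ofL_tmap H d i j (hik.trans hkj), ← ofL_tmap H d i' j (hi'k.trans hkj),
    SymTen.tmap_tprod, SymTen.tmap_tprod]
  congr 2
  funext n
  have := hj n
  rwa [H.trans_apply, H.trans_apply] at this

/-- The multilinear map `B^d → L`. -/
noncomputable def mfun (f : Fin d → B) : L d t :=
  ofL d t (H.exists_lift f).choose (PiTensorProduct.tprod A (H.exists_lift f).choose_spec.choose)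

theorem mfun_eq (f : Fin d → B) (i : ι) (x : Fin d → Bi i) (hx : ∀ n, φ i (x n) = f n) :
    mfun H d f = ofL d t i (PiTensorProduct.tprod A x) := by
  unfold mfun
  apply ofL_tprod_eq H
  intro n
  rw [(H.exists_lift f).choose_spec.choose_spec n, hx]

/-- The multilinear map `B^d → L`. -/
noncomputable def mmap : MultilinearMap A (fun _ : Fin d => B) (L d t) where
  toFun := mfun H d
  map_update_add' := by
    intro _ f n a b
    obtain ⟨k, y, hy⟩ := H.exists_lift (α := Option (Option (Fin d)))
      (fun o => o.elim b (fun o' => o'.elim a f))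
    have hb : φ k (y none) = b := hy none
    have ha : φ k (y (some none)) = a := hy (some none)
    have hf : ∀ m, φ k (y (some (some m))) = f m := fun m => hy (some (some m))
    set x : Fin d → Bi k := fun m => y (some (some m)) with hx
    have key : ∀ (c : B) (γ : Bi k), φ k γ = c →
        mfun H d (Function.update f n c) =
          ofL d t k (PiTensorProduct.tprod A (Function.update x n γ)) := by
      intro c γ hγ
      apply mfun_eq H d
      intro m
      by_cases hm : m = n
      · subst hm; simp [hγ]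
      · rw [Function.update_of_ne hm, Function.update_of_ne hm]; exact hf m
    rw [key (a + b) (y (some none) + y none) (by rw [map_add, ha, hb]), key a _ ha, key b _ hb,
      ← map_add]
    congr 1
    exact (PiTensorProduct.tprod A).map_update_add x n _ _
  map_update_smul' := by
    intro _ f n r a
    obtain ⟨k, y, hy⟩ := H.exists_lift (α := Option (Fin d))
      (fun o => o.elim a f)
    have ha : φ k (y none) = a := hy none
    have hf : ∀ m, φ k (y (some m)) = f m := fun m => hy (some m)
    set x : Fin d → Bi k := fun m => y (some m) with hx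
    have key : ∀ (c : B) (γ : Bi k), φ k γ = c →
        mfun H d (Function.update f n c) =
          ofL d t k (PiTensorProduct.tprod A (Function.update x n γ)) := by
      intro c γ hγ
      apply mfun_eq H d
      intro m
      by_cases hm : m = n
      · subst hm; simp [hγ]
      · rw [Function.update_of_ne hm, Function.update_of_ne hm]; exact hf m
    rw [key (r • a) (r • y none) (by rw [map_smul, ha]), key a _ ha, ← map_smul]
    congr 1
    exact (PiTensorProduct.tprod A).map_update_smul x n _ _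

theorem mmap_apply (f : Fin d → B) (i : ι) (x : Fin d → Bi i) (hx : ∀ n, φ i (x n) = f n) :
    mmap H d f = ofL d t i (PiTensorProduct.tprod A x) :=
  mfun_eq H d f i x hx

/-- The inverse map `T^d(B) → L`. -/
noncomputable def Ψ : (⨂[A] _ : Fin d, B) →ₗ[A] L d t := PiTensorProduct.lift (mmap H d)

theorem Ψ_tmap (i : ι) (y : ⨂[A] _ : Fin d, Bi i) :
    Ψ H d (SymTen.tmap A d (φ i) y) = ofL d t i y := by
  induction y using PiTensorProduct.induction_on with
  | smul_tprod r x =>
    rw [map_smul, map_smul, map_smul, SymTen.tmap_tprod]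
    unfold Ψ
    rw [PiTensorProduct.lift.tprod, mmap_apply H d _ i x (fun _ => rfl)]
  | add x y hx hy => rw [map_add, map_add, map_add, hx, hy]

/-- Zero detection for tensor powers. -/
theorem tmap_zero_exact (i : ι) (y : ⨂[A] _ : Fin d, Bi i)
    (hy : SymTen.tmap A d (φ i) y = 0) :
    ∃ (j : ι) (h : i ≤ j), SymTen.tmap A d (t i j h) y = 0 := by
  classical
  have h0 : ofL d t i y = 0 := by rw [← Ψ_tmap H d i y, hy, map_zero]
  haveI := directedSystem H d
  exact Module.DirectLimit.of.zero_exact (R := A) (ι := ι) (G := fun i => ⨂[A] _ : Fin d, Bi i)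
    (f := fun i j h => (SymTen.tmap A d (t i j h)).toLinearMap) h0

/-- Joint surjectivity for tensor powers. -/
theorem tmap_exists (z : ⨂[A] _ : Fin d, B) :
    ∃ (i : ι) (y : ⨂[A] _ : Fin d, Bi i), SymTen.tmap A d (φ i) y = z := by
  induction z using PiTensorProduct.induction_on with
  | smul_tprod r f =>
    obtain ⟨i, x, hx⟩ := H.exists_lift f
    refine ⟨i, r • PiTensorProduct.tprod A x, ?_⟩
    rw [map_smul, SymTen.tmap_tprod]
    congr 2
    funext n
    exact hx n
  | add x y hx hy =>
    obtain ⟨i, a, ha⟩ := hx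
    obtain ⟨j, b, hb⟩ := hy
    obtain ⟨k, hik, hjk⟩ := exists_ge_ge i j
    refine ⟨k, SymTen.tmap A d (t i k hik) a + SymTen.tmap A d (t j k hjk) b, ?_⟩
    rw [map_add, tmap_comp_apply, tmap_comp_apply, H.comp, H.comp, ha, hb]

/-- The main theorem. -/
theorem main :
    (∀ z : SymTen.TS A B d, ∃ (i : ι) (y : SymTen.TS A (Bi i) d), SymTen.TSmap A d (φ i) y = z) ∧
      ∀ (i : ι) (y : SymTen.TS A (Bi i) d), SymTen.TSmap A d (φ i) y = 0 →
        ∃ (j : ι) (h : i ≤ j), SymTen.TSmap A d (t i j h) y = 0 := by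
  constructor
  · intro z
    obtain ⟨i, y₀, hy₀⟩ := tmap_exists H d z.1
    have h1 : ∀ σ : Equiv.Perm (Fin d), ∃ (j : ι) (h : i ≤ j), SymTen.tmap A d (t i j h)
        (PiTensorProduct.reindex A (fun _ : Fin d => Bi i) σ y₀ - y₀) = 0 := by
      intro σ
      apply tmap_zero_exact H d
      rw [map_sub, SymTen.tmap_reindex, hy₀, z.2 σ, sub_self]
    choose j₀ hj₀ hz using h1
    obtain ⟨k, hk⟩ := Finite.exists_le (fun o : Option (Equiv.Perm (Fin d)) => o.elim i j₀)
    have hik : i ≤ k := hk none
    have hsym : SymTen.tmap A d (t i k hik) y₀ ∈ SymTen.TS A (Bi k) d := by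
      intro σ
      rw [← SymTen.tmap_reindex]
      have h2 : SymTen.tmap A d (t i k hik)
          (PiTensorProduct.reindex A (fun _ : Fin d => Bi i) σ y₀ - y₀) = 0 := by
        have h3 : j₀ σ ≤ k := hk (some σ)
        rw [← H.trans i (j₀ σ) k (hj₀ σ) h3, ← tmap_comp_apply, hz, map_zero]
      rwa [map_sub, sub_eq_zero] at h2
    refine ⟨k, ⟨_, hsym⟩, Subtype.ext ?_⟩
    show SymTen.tmap A d (φ k) (SymTen.tmap A d (t i k hik) y₀) = z.1
    rw [tmap_comp_apply, H.comp, hy₀]
  · intro i y hy
    have h1 : SymTen.tmap A d (φ i) y.1 = 0 := congrArg Subtype.val hy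
    obtain ⟨j, hij, hj⟩ := tmap_zero_exact H d i y.1 h1
    exact ⟨j, hij, Subtype.ext hj⟩

end Limit

end Groth.Agent.Lib.Helper6.SymTenLim
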